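import Mathlib

/-!
# Elementwise commutator calculus in the lower central series (for the associated Lie ring)

`Gam G n = γ_{n+1}(G)` (Mathlib indexing).
-/

set_option autoImplicit false

namespace Cfsg.Agent.Lib.Helper97.LCS

open Subgroup
open scoped commutatorElement

variable {G : Type*} [Group G]

/-- `γ_{n+1}(G)` -/
abbrev Gam (G : Type*) [Group G] (n : ℕ) : Subgroup G := (⊤ : Subgroup G).lowerCentralSeries n

instance Gam_normal (n : ℕ) : (Gam G n).Normal := inferInstance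

theorem Gam_anti {m n : ℕ} (h : m ≤ n) : Gam G n ≤ Gam G m :=
  Subgroup.lowerCentralSeries_antitone _ h

/-- three subgroups lemma modulo a normal subgroup -/
theorem three_mod (A B C N : Subgroup G) [N.Normal] (h1 : ⁅⁅B, C⁆, A⁆ ≤ N) (h2 : ⁅⁅C, A⁆, B⁆ ≤ N) :
    ⁅⁅A, B⁆, C⁆ ≤ N := by
  have key : ∀ X : Subgroup G, X ≤ N ↔ X.map (QuotientGroup.mk' N) = ⊥ := by
    intro X
    rw [Subgroup.map_eq_bot_iff, QuotientGroup.ker_mk']
  rw [key, Subgroup.map_commutator, Subgroup.map_commutator] at h1 h2 ⊢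
  exact Subgroup.commutator_commutator_eq_bot_of_rotate h1 h2

theorem comm_le (i j : ℕ) : ⁅Gam G i, Gam G j⁆ ≤ Gam G (i + j + 1) := by
  induction j generalizing i with
  | zero => exact le_of_eq rfl
  | succ j ih =>
    have e : Gam G (j + 1) = ⁅Gam G j, (⊤ : Subgroup G)⁆ := rfl
    rw [Subgroup.commutator_comm, e]
    apply three_mod
    · -- ⁅⁅⊤, Γ i⁆, Γ j⁆
      have h1 : ⁅(⊤ : Subgroup G), Gam G i⁆ = Gam G (i + 1) := by
        rw [Subgroup.commutator_comm]; rfl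
      rw [h1]
      have := ih (i + 1)
      have e2 : i + 1 + j + 1 = i + (j + 1) + 1 := by omega
      rwa [e2] at this
    · -- ⁅⁅Γ i, Γ j⁆, ⊤⁆
      have h2 : ⁅⁅Gam G i, Gam G j⁆, (⊤ : Subgroup G)⁆ ≤ ⁅Gam G (i + j + 1), (⊤ : Subgroup G)⁆ :=
        Subgroup.commutator_mono (ih i) le_rfl
      exact h2

theorem comm_mem {i j : ℕ} {x y : G} (hx : x ∈ Gam G i) (hy : y ∈ Gam G j) :
    ⁅x, y⁆ ∈ Gam G (i + j + 1) :=
  comm_le i j (Subgroup.commutator_mem_commutator hx hy)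

/-- congruence modulo `γ` -/
def Cg (n : ℕ) (x y : G) : Prop := x⁻¹ * y ∈ Gam G n

theorem Cg.refl (n : ℕ) (x : G) : Cg n x x := by simp [Cg, one_mem]

theorem Cg.symm {n : ℕ} {x y : G} (h : Cg n x y) : Cg n y x := by
  have := inv_mem h
  simpa [Cg] using this

theorem Cg.trans {n : ℕ} {x y z : G} (h1 : Cg n x y) (h2 : Cg n y z) : Cg n x z := by
  have := mul_mem h1 h2
  simpa [Cg, mul_assoc] using this

theorem Cg.mul {n : ℕ} {x y x' y' : G} (h1 : Cg n x y) (h2 : Cg n x' y') : Cg n (x * x') (y * y') := by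
  unfold Cg at *
  have h3 : x'⁻¹ * (x⁻¹ * y) * x' ∈ Gam G n := by
    have := (Gam_normal (G := G) n).conj_mem _ h1 x'⁻¹
    simpa using this
  have := mul_mem h3 h2
  have e : (x * x')⁻¹ * (y * y') = x'⁻¹ * (x⁻¹ * y) * x' * (x'⁻¹ * y') := by group
  rw [e]; exact this

theorem Cg.inv {n : ℕ} {x y : G} (h : Cg n x y) : Cg n x⁻¹ y⁻¹ := by
  unfold Cg at *
  have h3 : x * (x⁻¹ * y)⁻¹ * x⁻¹ ∈ Gam G n := (Gam_normal (G := G) n).conj_mem _ (inv_mem h) x
  have e : x⁻¹⁻¹ * y⁻¹ = x * (x⁻¹ * y)⁻¹ * x⁻¹ := by group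
  rw [e]; exact h3

theorem Cg.of_mem {n : ℕ} {x : G} (h : x ∈ Gam G n) : Cg n 1 x := by simpa [Cg] using h

theorem Cg.mono {m n : ℕ} (hmn : m ≤ n) {x y : G} (h : Cg n x y) : Cg m x y := Gam_anti hmn h

/-- conjugation is trivial modulo the next term -/
theorem Cg.conj {n : ℕ} {x : G} (hx : x ∈ Gam G n) (g : G) : Cg (n + 1) x (g * x * g⁻¹) := by
  unfold Cg
  have h : ⁅x⁻¹, g⁆ ∈ Gam G (n + 0 + 1) := comm_mem (i := n) (j := 0) (inv_mem hx) (show g ∈ Gam G 0 from Subgroup.mem_top g)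
  have e : x⁻¹ * (g * x * g⁻¹) = ⁅x⁻¹, g⁆ := by simp [commutatorElement_def, mul_assoc]
  rw [e]; exact h

end Cfsg.Agent.Lib.Helper97.LCS
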