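import Cfsg.Agent.Lib.Helper97.LCS.A

/-!
# Bilinearity and Jacobi identity of the group commutator modulo the lower central series
-/

set_option autoImplicit false

namespace Cfsg.Agent.Lib.Helper97.LCS

open Subgroup
open scoped commutatorElement

variable {G : Type*} [Group G]

theorem comm_swap {m : ℕ} {a b : G} (ha : a ∈ Gam G m) (hb : b ∈ Gam G m) :
    Cg (m + 1) (a * b) (b * a) := by
  unfold Cg
  have h : ⁅b⁻¹, a⁻¹⁆ ∈ Gam G (m + m + 1) := comm_mem (inv_mem hb) (inv_mem ha)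
  have e : (a * b)⁻¹ * (b * a) = ⁅b⁻¹, a⁻¹⁆ := by simp [commutatorElement_def, mul_assoc]
  rw [e]
  exact Gam_anti (by omega) h

theorem brk_mul_left {i j : ℕ} {x x' y : G} (hx : x ∈ Gam G i) (hx' : x' ∈ Gam G i)
    (hy : y ∈ Gam G j) : Cg (i + j + 2) ⁅x * x', y⁆ (⁅x, y⁆ * ⁅x', y⁆) := by
  have e : ⁅x * x', y⁆ = x * ⁅x', y⁆ * x⁻¹ * ⁅x, y⁆ := by
    simp only [commutatorElement_def]; group
  rw [e]
  have h1 : Cg (i + j + 2) (x * ⁅x', y⁆ * x⁻¹) ⁅x', y⁆ := (Cg.conj (comm_mem hx' hy) x).symm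
  exact (h1.mul (Cg.refl _ _)).trans (comm_swap (comm_mem hx' hy) (comm_mem hx hy))

theorem brk_mul_right {i j : ℕ} {x y y' : G} (hx : x ∈ Gam G i) (hy : y ∈ Gam G j)
    (hy' : y' ∈ Gam G j) : Cg (i + j + 2) ⁅x, y * y'⁆ (⁅x, y⁆ * ⁅x, y'⁆) := by
  have e : ⁅x, y * y'⁆ = ⁅x, y⁆ * (y * ⁅x, y'⁆ * y⁻¹) := by
    simp only [commutatorElement_def]; group
  rw [e]
  have h1 : Cg (i + j + 2) (y * ⁅x, y'⁆ * y⁻¹) ⁅x, y'⁆ := (Cg.conj (comm_mem hx hy') y).symm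
  exact (Cg.refl _ _).mul h1

theorem brk_congr_left {i j : ℕ} {x x' y : G} (h : Cg (i + 1) x x')
    (hy : y ∈ Gam G j) : Cg (i + j + 2) ⁅x, y⁆ ⁅x', y⁆ := by
  -- x' = x * u
  set u := x⁻¹ * x' with hu
  have hx' : x' = x * u := by rw [hu]; group
  have e : ⁅x', y⁆ = x * ⁅u, y⁆ * x⁻¹ * ⁅x, y⁆ := by
    rw [hx']; simp only [commutatorElement_def]; group
  have h1 : ⁅u, y⁆ ∈ Gam G (i + 1 + j + 1) := comm_mem h hy
  have h2 : x * ⁅u, y⁆ * x⁻¹ ∈ Gam G (i + j + 2) := by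
    have := (Gam_normal (G := G) (i + 1 + j + 1)).conj_mem _ h1 x
    have e2 : i + 1 + j + 1 = i + j + 2 := by omega
    rwa [e2] at this
  rw [e]
  have := (Cg.of_mem h2).mul (Cg.refl (i + j + 2) ⁅x, y⁆)
  simpa using this

theorem brk_congr_right {i j : ℕ} {x y y' : G} (hx : x ∈ Gam G i) (h : Cg (j + 1) y y') :
    Cg (i + j + 2) ⁅x, y⁆ ⁅x, y'⁆ := by
  have h1 : Cg (j + i + 2) ⁅y, x⁆ ⁅y', x⁆ := brk_congr_left h hx
  have h2 := h1.inv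
  rw [commutatorElement_inv, commutatorElement_inv] at h2
  have e2 : j + i + 2 = i + j + 2 := by omega
  rwa [e2] at h2

theorem hall_witt (x y z : G) :
    ⁅⁅x, y⁆, y * z * y⁻¹⁆ * ⁅⁅y, z⁆, z * x * z⁻¹⁆ * ⁅⁅z, x⁆, x * y * x⁻¹⁆ = 1 := by
  simp only [commutatorElement_def]; group

theorem jacobi {i j k : ℕ} {x y z : G} (hx : x ∈ Gam G i) (hy : y ∈ Gam G j) (hz : z ∈ Gam G k) :
    ⁅⁅x, y⁆, z⁆ * ⁅⁅y, z⁆, x⁆ * ⁅⁅z, x⁆, y⁆ ∈ Gam G (i + j + k + 3) := by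
  have h1 : Cg (i + j + 1 + k + 2) ⁅⁅x, y⁆, z⁆ ⁅⁅x, y⁆, y * z * y⁻¹⁆ :=
    brk_congr_right (comm_mem hx hy) (Cg.conj hz y)
  have h2 : Cg (j + k + 1 + i + 2) ⁅⁅y, z⁆, x⁆ ⁅⁅y, z⁆, z * x * z⁻¹⁆ :=
    brk_congr_right (comm_mem hy hz) (Cg.conj hx z)
  have h3 : Cg (k + i + 1 + j + 2) ⁅⁅z, x⁆, y⁆ ⁅⁅z, x⁆, x * y * x⁻¹⁆ :=
    brk_congr_right (comm_mem hz hx) (Cg.conj hy x)
  have e1 : i + j + 1 + k + 2 = i + j + k + 3 := by omega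
  have e2 : j + k + 1 + i + 2 = i + j + k + 3 := by omega
  have e3 : k + i + 1 + j + 2 = i + j + k + 3 := by omega
  rw [e1] at h1; rw [e2] at h2; rw [e3] at h3
  have h := ((h1.mul h2).mul h3).symm
  rw [hall_witt] at h
  simpa [Cg] using h

end Cfsg.Agent.Lib.Helper97.LCS
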